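import Mathlib.RingTheory.MvPowerSeries.Basic
import Mathlib.RingTheory.AdicCompletion.Basic
import Mathlib.RingTheory.LocalRing.MaximalIdeal.Basic
import Mathlib.Tactic.LinearCombination

/-!
# Division by a system congruent to powers of the variables

Over an `I`-adically complete ring, a power series is congruent modulo `X i ^ q i + g i`, where the
coefficients of `g i` lie in `I`, to a polynomial with exponents below `q`.
-/

universe u

open MvPowerSeries

namespace GrothLib.DvrPrep16

variable {R : Type u} [CommRing R] {n : ℕ} (q : Fin n → ℕ)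

/-- Exponents below `q`. -/
def Low (d : Fin n →₀ ℕ) : Prop := ∀ i, d i < q i

instance : DecidablePred (Low q) := fun d => inferInstanceAs (Decidable (∀ i, d i < q i))

/-- The exponent of an index of the box. -/
noncomputable def emb (F : ∀ i, Fin (q i)) : Fin n →₀ ℕ := Finsupp.equivFunOnFinite.symm fun i => (F i : ℕ)

theorem emb_apply (F : ∀ i, Fin (q i)) (i : Fin n) : emb q F i = F i := rfl

theorem emb_injective : Function.Injective (emb q) := fun F G h =>
  funext fun i => Fin.ext (DFunLike.congr_fun h i)

theorem low_emb (F : ∀ i, Fin (q i)) : Low q (emb q F) := fun i => (F i).2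

/-- The quotient of the monomials attributed to the variable `i`. -/
noncomputable def part (i : Fin n) (f : MvPowerSeries (Fin n) R) : MvPowerSeries (Fin n) R := fun d =>
  if ∀ j, j < i → d j < q j then coeff (d + Finsupp.single i (q i)) f else 0

theorem coeff_part (i : Fin n) (f : MvPowerSeries (Fin n) R) (d : Fin n →₀ ℕ) :
    coeff d (part q i f) = if ∀ j, j < i → d j < q j then coeff (d + Finsupp.single i (q i)) f else 0 := rfl

theorem coeff_low_add_sum (f : MvPowerSeries (Fin n) R) (d : Fin n →₀ ℕ) :
    (if Low q d then coeff d f else 0) + coeff d (∑ i, (X i) ^ q i * part q i f) = coeff d f := by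
  classical
  rw [map_sum]
  have hterm : ∀ i, coeff d ((X i) ^ q i * part q i f) =
      if q i ≤ d i ∧ (∀ j, j < i → d j < q j) then coeff d f else 0 := fun i => by
    rw [X_pow_eq, coeff_monomial_mul, one_mul, coeff_part]
    by_cases hi : q i ≤ d i
    · rw [if_pos (Finsupp.single_le_iff.2 hi), tsub_add_cancel_of_le (Finsupp.single_le_iff.2 hi)]
      refine if_congr ?_ rfl rfl
      simp only [hi, true_and]
      refine forall₂_congr fun j hj => ?_
      rw [Finsupp.tsub_apply, Finsupp.single_apply, if_neg hj.ne', Nat.sub_zero]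
    · rw [if_neg (mt Finsupp.single_le_iff.1 hi), if_neg fun h => hi h.1]
  simp only [hterm]
  by_cases hd : Low q d
  · rw [if_pos hd, Finset.sum_eq_zero fun i _ => if_neg fun h => (hd i).not_ge h.1, add_zero]
  · rw [if_neg hd, zero_add]
    have hne : (Finset.univ.filter fun i => q i ≤ d i).Nonempty := by
      simp only [Low, not_forall, not_lt] at hd
      obtain ⟨i, hi⟩ := hd
      exact ⟨i, by simpa using hi⟩
    set i₀ := (Finset.univ.filter fun i => q i ≤ d i).min' hne
    have h0 : q i₀ ≤ d i₀ := (Finset.mem_filter.1 (Finset.min'_mem _ hne)).2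
    have h1 : ∀ j, j < i₀ → d j < q j := fun j hj => by
      by_contra h
      exact hj.not_ge (Finset.min'_le _ _ (by simpa using not_lt.1 h))
    rw [Finset.sum_eq_single i₀ (fun i _ hi => if_neg fun h => ?_) (by simp), if_pos ⟨h0, h1⟩]
    rcases lt_or_gt_of_ne hi with hlt | hgt
    · exact (h1 i hlt).not_ge h.1
    · exact (h.2 i₀ hgt).not_ge h0

/-- The error of one division step. -/
noncomputable def step (g : Fin n → MvPowerSeries (Fin n) R) (f : MvPowerSeries (Fin n) R) :
    MvPowerSeries (Fin n) R :=
  -∑ i, g i * part q i f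

/-- Division with remainder below `q`. -/
theorem exists_low_sub_mem {I : Ideal R} [IsAdicComplete I R] (g : Fin n → MvPowerSeries (Fin n) R)
    (hg : ∀ i d, coeff d (g i) ∈ I) (f : MvPowerSeries (Fin n) R) :
    ∃ c : (∀ i, Fin (q i)) → R,
      f - ∑ F, monomial (emb q F) (c F) ∈ Ideal.span (Set.range fun i => (X i) ^ q i + g i) := by
  classical
  let fs : ℕ → MvPowerSeries (Fin n) R := fun m => (step q g)^[m] f
  have hfs : ∀ m d, coeff d (fs m) ∈ I ^ m := by
    intro m
    induction m with
    | zero => intro d; simp [Ideal.one_eq_top]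
    | succ m ih =>
      intro d
      simp only [fs, Function.iterate_succ_apply', step, map_neg, map_sum]
      refine neg_mem (sum_mem fun i _ => ?_)
      rw [coeff_mul]
      refine sum_mem fun p _ => ?_
      rw [pow_succ']
      refine Ideal.mul_mem_mul (hg i _) ?_
      rw [coeff_part]
      split_ifs
      · exact ih _
      · exact zero_mem _
  let HN : ℕ → Fin n → MvPowerSeries (Fin n) R := fun N i => ∑ m ∈ Finset.range N, part q i (fs m)
  have hHN : ∀ i d, ∀ {a b : ℕ}, a ≤ b →
      coeff d (HN a i) ≡ coeff d (HN b i) [SMOD (I ^ a • ⊤ : Submodule R R)] := by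
    intro i d a b hab
    rw [SModEq.sub_mem, smul_eq_mul, Ideal.mul_top, ← neg_mem_iff, neg_sub]
    simp only [HN, map_sum]
    rw [← Finset.sum_Ico_eq_sub _ hab]
    refine sum_mem fun m hm => ?_
    rw [coeff_part]
    split_ifs
    · exact Ideal.pow_le_pow_right (Finset.mem_Ico.1 hm).1 (hfs _ _)
    · exact zero_mem _
  choose Hc hHc using fun i d => IsPrecomplete.prec (inferInstance : IsPrecomplete I R) (hHN i d)
  let H : Fin n → MvPowerSeries (Fin n) R := fun i d => Hc i d
  set r := f - ∑ i, ((X i) ^ q i + g i) * H i with hr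
  have hkey : ∀ N, f - ∑ i, ((X i) ^ q i + g i) * HN N i =
      (∑ m ∈ Finset.range N, (fs m - ∑ i, (X i) ^ q i * part q i (fs m))) + fs N := by
    intro N
    induction N with
    | zero => simp [HN, fs]
    | succ N ih =>
      have hs : fs (N + 1) = -∑ i, g i * part q i (fs N) := by
        simp only [fs, Function.iterate_succ_apply', step]
      simp only [HN, Finset.sum_range_succ, mul_add, Finset.sum_add_distrib] at ih ⊢
      rw [hs]
      simp only [add_mul, Finset.sum_add_distrib] at ih ⊢
      linear_combination ih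
  have hlow : ∀ d, ¬ Low q d → coeff d r = 0 := by
    intro d hd
    refine IsHausdorff.haus (I := I) inferInstance _ fun N => ?_
    rw [SModEq.sub_mem, sub_zero, smul_eq_mul, Ideal.mul_top]
    have h1 : coeff d (f - ∑ i, ((X i) ^ q i + g i) * HN N i) ∈ I ^ N := by
      rw [hkey, map_add, map_sum, Finset.sum_eq_zero, zero_add]
      · exact hfs N d
      · intro m _
        rw [map_sub, ← coeff_low_add_sum q (fs m) d, if_neg hd]
        simp
    have h2 : coeff d r - coeff d (f - ∑ i, ((X i) ^ q i + g i) * HN N i) ∈ I ^ N := by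
      rw [← map_sub, hr, sub_sub_sub_cancel_left, ← Finset.sum_sub_distrib, map_sum]
      refine sum_mem fun i _ => ?_
      rw [← mul_sub, coeff_mul]
      refine sum_mem fun p _ => Ideal.mul_mem_left _ _ ?_
      have h := SModEq.sub_mem.1 (hHc i p.2 N)
      rw [smul_eq_mul, Ideal.mul_top] at h
      rwa [map_sub]
    simpa using add_mem h2 h1
  refine ⟨fun F => coeff (emb q F) r, ?_⟩
  have hr' : ∑ F, monomial (emb q F) (coeff (emb q F) r) = r := by
    ext d
    rw [map_sum]
    by_cases hd : Low q d
    · rw [Finset.sum_eq_single (fun i => (⟨d i, hd i⟩ : Fin (q i)))]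
      · rw [show emb q (fun i => (⟨d i, hd i⟩ : Fin (q i))) = d from Finsupp.ext fun i => rfl, coeff_monomial_same]
      · intro F _ hF
        refine coeff_monomial_ne (fun h => hF ?_) _
        funext i
        exact Fin.ext (DFunLike.congr_fun h i).symm
      · simp
    · rw [hlow d hd]
      exact Finset.sum_eq_zero fun F _ => coeff_monomial_ne (fun h => hd (by rw [h]; exact low_emb q F)) _
  rw [hr', hr, sub_sub_cancel]
  exact sum_mem fun i _ => Ideal.mul_mem_right _ _ (Ideal.subset_span ⟨i, rfl⟩)

end GrothLib.DvrPrep16
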