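import Groth.Agent.Lib.DvrPrep16.Division
import Groth.Agent.Lib.RegLoc.PowerSeries
import Groth.Agent.Lib.AdicExtra.FiniteAlg
import Mathlib.RingTheory.MvPolynomial.Basic
import Mathlib.LinearAlgebra.Dimension.Constructions
import Mathlib.LinearAlgebra.Dimension.OrzechProperty
import Mathlib.RingTheory.LocalRing.Module

/-!
# Presentations of finite free local algebras with truncated special fibre
-/

universe u

open IsLocalRing TensorProduct

namespace GrothLib.DvrPrep16

/-- Monomials below the nilpotency exponents span. -/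
theorem span_monomials {k : Type*} [CommRing k] {A : Type*} [CommRing A] [Algebra k A] {n : ℕ}
    (q : Fin n → ℕ) (x : Fin n → A) (hx : ∀ i, x i ^ q i = 0)
    (hadj : Algebra.adjoin k (Set.range x) = ⊤) :
    Submodule.span k (Set.range fun F : ∀ i, Fin (q i) => ∏ i, x i ^ (F i : ℕ)) = ⊤ := by
  classical
  rw [eq_top_iff]
  rintro a -
  have ha : a ∈ (MvPolynomial.aeval x : MvPolynomial (Fin n) k →ₐ[k] A).range := by
    rw [← Algebra.adjoin_range_eq_range_aeval, hadj]; trivial
  obtain ⟨z, rfl⟩ := ha
  change MvPolynomial.aeval x z ∈ _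
  induction z using MvPolynomial.induction_on' with
  | add a b ha hb => rw [map_add]; exact add_mem ha hb
  | monomial f c =>
    rw [MvPolynomial.aeval_monomial, Finsupp.prod_fintype _ _ (fun i => pow_zero _)]
    by_cases hf : ∀ i, f i < q i
    · rw [← Algebra.smul_def]
      exact Submodule.smul_mem _ _ (Submodule.subset_span ⟨fun i => ⟨f i, hf i⟩, rfl⟩)
    · push Not at hf
      obtain ⟨i, hi⟩ := hf
      rw [Finset.prod_eq_zero (f := fun j => x j ^ f j) (Finset.mem_univ i) (pow_eq_zero_of_le hi (hx i)), mul_zero]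
      exact zero_mem _

/-- A finite free local algebra over a complete local ring whose special fibre is generated by `x`
with `x i ^ q i = 0` and dimension `∏ q i` is presented by congruent equations. -/
theorem exists_presentation {R : Type u} [CommRing R] [IsLocalRing R] [IsNoetherianRing R]
    [IsAdicComplete (maximalIdeal R) R] {A : Type u} [CommRing A] [Algebra R A] [Module.Finite R A]
    [Module.Free R A] [IsLocalRing A] {n : ℕ} (q : Fin n → ℕ) (hq : ∀ i, 0 < q i)
    (x : Fin n → ResidueField R ⊗[R] A) (hx : ∀ i, x i ^ q i = 0)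
    (hadj : Algebra.adjoin (ResidueField R) (Set.range x) = ⊤)
    (hd : ∏ i, q i = Module.finrank (ResidueField R) (ResidueField R ⊗[R] A)) :
    ∃ g : Fin n → MvPolynomial (Fin n) R,
      (∀ i, (∀ d, (g i).coeff d ∈ maximalIdeal R) ∧ (g i).degreeOf i < q i) ∧
      Nonempty (A ≃ₐ[R] (MvPowerSeries (Fin n) R ⧸
        Ideal.span (Set.range fun i => (MvPowerSeries.X i : MvPowerSeries (Fin n) R) ^ q i + ↑(g i)))) := by
  classical
  set k := ResidueField R
  have hres : Function.Surjective (algebraMap R k) := IsLocalRing.residue_surjective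
  choose y hy using fun i => TensorProduct.mk_surjective R A k hres (x i)
  let π : A →ₐ[R] k ⊗[R] A := Algebra.TensorProduct.includeRight
  have hπy : ∀ i, π (y i) = x i := hy
  haveI : Nontrivial A := inferInstance
  haveI : IsNoetherianRing A := IsNoetherianRing.of_finite R A
  haveI : IsAdicComplete (maximalIdeal A) A := GrothLib.AdicExtra.isAdicComplete_localRing (R := R)
  let w : (∀ i, Fin (q i)) → A := fun F => ∏ i, y i ^ (F i : ℕ)
  let wb : (∀ i, Fin (q i)) → k ⊗[R] A := fun F => ∏ i, x i ^ (F i : ℕ)
  have hπw : ∀ F, π (w F) = wb F := fun F => by simp only [w, wb, map_prod, map_pow, hπy]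
  have hwb : Submodule.span k (Set.range wb) = ⊤ := span_monomials q x hx hadj
  have hcard : Fintype.card (∀ i, Fin (q i)) = Module.finrank k (k ⊗[R] A) := by rw [← hd, Fintype.card_pi]; simp only [Fintype.card_fin]
  have hwbli : LinearIndependent k wb :=
    linearIndependent_of_top_le_span_of_card_eq_finrank hwb.ge hcard
  have hwspan : Submodule.span R (Set.range w) = ⊤ := by
    refine IsLocalRing.span_eq_top_of_tmul_eq_basis w (Module.Basis.mk hwbli hwb.ge) fun F => ?_
    rw [Module.Basis.mk_apply]
    exact hπw F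
  have hwli : LinearIndependent R w :=
    linearIndependent_of_top_le_span_of_card_eq_finrank hwspan.ge (by rw [hcard, Module.finrank_baseChange])
  -- the coefficients
  have hpow : ∀ i, ∃ c : (∀ j, Fin (q j)) → R, (∑ F, c F • w F = y i ^ q i) ∧ ∀ F, c F ∈ maximalIdeal R := by
    intro i
    obtain ⟨c, hc⟩ := (Submodule.mem_span_range_iff_exists_fun R).1
      (hwspan.symm ▸ Submodule.mem_top : y i ^ q i ∈ Submodule.span R (Set.range w))
    refine ⟨c, hc, fun F => ?_⟩
    have h := congrArg π hc
    simp only [map_sum, map_smul, map_pow, hπy, hx, hπw] at h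
    have h2 : ∑ F, algebraMap R k (c F) • wb F = 0 := by
      simpa only [IsScalarTower.algebraMap_smul] using h
    exact (IsLocalRing.residue_eq_zero_iff _).1 (Fintype.linearIndependent_iff.1 hwbli _ h2 F)
  choose c hc hcm using hpow
  let g : Fin n → MvPolynomial (Fin n) R := fun i => -∑ F, MvPolynomial.monomial (emb q F) (c i F)
  have hgm : ∀ i d, (g i).coeff d ∈ maximalIdeal R := fun i d => by
    simp only [g, MvPolynomial.coeff_neg, MvPolynomial.coeff_sum, MvPolynomial.coeff_monomial]
    refine neg_mem (sum_mem fun F _ => ?_)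
    split_ifs
    · exact hcm i F
    · exact zero_mem _
  have hgdeg : ∀ i, (g i).degreeOf i < q i := fun i => by
    rw [MvPolynomial.degreeOf_lt_iff (hq i)]
    intro d hd
    rw [MvPolynomial.mem_support_iff] at hd
    simp only [g, MvPolynomial.coeff_neg, MvPolynomial.coeff_sum, MvPolynomial.coeff_monomial, ne_eq,
      neg_eq_zero] at hd
    obtain ⟨F, -, hF⟩ := Finset.exists_ne_zero_of_sum_ne_zero hd
    split_ifs at hF with h
    · rw [← h]; exact (F i).2
    · exact absurd rfl hF
  have haevm : ∀ (F : ∀ i, Fin (q i)) (r : R),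
      MvPolynomial.aeval y (MvPolynomial.monomial (emb q F) r) = r • w F := fun F r => by
    rw [MvPolynomial.aeval_monomial, Finsupp.prod_fintype _ _ (fun i => pow_zero _), Algebra.smul_def]
    rfl
  have hroot : ∀ i, y i ^ q i + MvPolynomial.aeval y (g i) = 0 := fun i => by
    simp only [g, map_neg, map_sum, haevm, hc, add_neg_cancel]
  -- evaluation
  have hym : ∀ i, y i ∈ maximalIdeal A := fun i hu => by
    haveI : Nontrivial (k ⊗[R] A) := Module.nontrivial_of_finrank_pos (R := k) (by
      rw [← hd]; exact Finset.prod_pos fun j _ => hq j)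
    have h := (hu.map π).pow (q i)
    rw [hπy, hx] at h
    exact not_isUnit_zero h
  obtain ⟨ev, hev⟩ := GrothLib.RegLoc.PS.exists_algHom (A := R) (maximalIdeal A) y hym
  have hevp : ∀ p : MvPolynomial (Fin n) R, ev (p : MvPowerSeries (Fin n) R) = MvPolynomial.aeval y p := by
    have h : ev.comp (MvPolynomial.coeToMvPowerSeries.algHom R) = MvPolynomial.aeval y :=
      MvPolynomial.algHom_ext fun i => by simpa using hev i
    intro p
    simpa using AlgHom.congr_fun h p
  set J : Ideal (MvPowerSeries (Fin n) R) :=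
    Ideal.span (Set.range fun i => (MvPowerSeries.X i : MvPowerSeries (Fin n) R) ^ q i + ↑(g i))
  have hJ : J ≤ RingHom.ker ev := by
    rw [Ideal.span_le]
    rintro _ ⟨i, rfl⟩
    rw [SetLike.mem_coe, RingHom.mem_ker, map_add, map_pow, hev, hevp]
    exact hroot i
  have hmon : ∀ (F : ∀ i, Fin (q i)) (r : R), ev (MvPowerSeries.monomial (emb q F) r) = r • w F := fun F r => by
    rw [← MvPolynomial.coe_monomial, hevp]
    exact haevm F r
  have hker : RingHom.ker ev ≤ J := fun f hf => by
    obtain ⟨a, ha⟩ := exists_low_sub_mem (I := maximalIdeal R) q (fun i => (g i : MvPowerSeries (Fin n) R))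
      (fun i d => by rw [MvPolynomial.coeff_coe]; exact hgm i d) f
    have h0 : ∑ F, a F • w F = 0 := by
      have h := hJ ha
      rw [RingHom.mem_ker, map_sub, show ev f = 0 from hf, zero_sub, neg_eq_zero, map_sum] at h
      simpa only [hmon] using h
    have ha0 := Fintype.linearIndependent_iff.1 hwli a h0
    simpa [ha0] using ha
  have hsur : Function.Surjective ev := fun a => by
    obtain ⟨b, hb⟩ := (Submodule.mem_span_range_iff_exists_fun R).1
      (hwspan.symm ▸ Submodule.mem_top : a ∈ Submodule.span R (Set.range w))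
    exact ⟨∑ F, MvPowerSeries.monomial (emb q F) (b F), by rw [map_sum]; simpa only [hmon] using hb⟩
  refine ⟨g, fun i => ⟨hgm i, hgdeg i⟩, ⟨?_⟩⟩
  exact (Ideal.quotientKerAlgEquivOfSurjective hsur).symm.trans
    (Ideal.quotientEquivAlgOfEq R (le_antisymm hker hJ))

end GrothLib.DvrPrep16
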